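import Cfsg.Agent.Lib.Components.GenFitting
import Cfsg.Agent.Lib.Cores.Basic
import Cfsg.Agent.Lib.Cores.InvariantSylow
import Cfsg.Agent.Lib.CharP.Basic
import Cfsg.Agent.Lib.Coprime.Commutator
import Cfsg.Agent.Lib.PGroups.Frattini
import Cfsg.Agent.Lib.PrimePowerClass.Basic
import Cfsg.Agent.Lib.Transfer.PResidual

/-!
# The normal closure of `O^p(P)` for an isolated `P`, when `O_p(G) = 1`

`S` is Sylow, every overgroup of `S` not containing `P` lies in `L`, and `L` normalises a nontrivial
`Q ≤ S`.
-/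

set_option autoImplicit false
set_option linter.unusedSectionVars false
set_option linter.style.haveILetI false

open Cfsg
open scoped commutatorElement

namespace Cfsg.Agent.Lib.LA5.Isolated

open Subgroup
open Cfsg.Agent.Lib

universe u

variable {G : Type u} [Group G] [Finite G] {p : ℕ} [hp : Fact p.Prime]

theorem mem_of_coprime_of_mem_sup {N S : Subgroup G} (hS : IsPGroup p S)
    (hSN : S ≤ normalizer (N : Set G)) {x : G} (hx : x ∈ N ⊔ S) (hxp : (orderOf x).Coprime p) :
    x ∈ N := by
  set X := N ⊔ S with hX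
  haveI : (N.subgroupOf X).Normal :=
    normal_subgroupOf_of_le_normalizer (sup_le le_normalizer hSN)
  have hq : IsPGroup p (↥X ⧸ N.subgroupOf X) := by
    refine (hS.comap_subtype (K := X)).of_surjective
      ((QuotientGroup.mk' _).comp (S.subgroupOf X).subtype) fun q => ?_
    obtain ⟨⟨g, hg⟩, rfl⟩ := QuotientGroup.mk'_surjective _ q
    have hg' : g ∈ ((N ⊔ S : Subgroup G) : Set G) := hg
    rw [Subgroup.coe_mul_of_right_le_normalizer_left N S hSN] at hg'
    obtain ⟨n, hn, s, hs, rfl⟩ := hg'
    refine ⟨⟨⟨s, mem_sup_right hs⟩, hs⟩, QuotientGroup.eq.2 ?_⟩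
    show s⁻¹ * (n * s) ∈ N
    rw [← mul_assoc]
    exact (mem_normalizer_iff''.1 (hSN hs) n).1 hn
  exact Transfer.PResidual.pResidual_le_of_isPGroup_quotient _ hq
    (Transfer.PResidual.mem_pResidual (g := (⟨x, hx⟩ : X)) (by rwa [← Subgroup.orderOf_coe]))

/-- An isolated configuration with trivial `p`-core. -/
structure Iso (p : ℕ) (S : Sylow p G) (P L Q R : Subgroup G) : Prop where
  SP : (S : Subgroup G) ≤ P
  SL : (S : Subgroup G) ≤ L
  gen : ∀ H : Subgroup G, (S : Subgroup G) ≤ H → ¬ P ≤ H → H ≤ L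
  gen2 : ∀ H : Subgroup G, (S : Subgroup G) ≤ H → H ≤ P ⊔ (H ⊓ L)
  not_le : ¬ P ≤ L
  QS : Q ≤ (S : Subgroup G)
  Q_norm : L ≤ normalizer (Q : Set G)
  Q_ne : Q ≠ ⊥
  core : pCore p G = ⊥
  hR : R = (pResidual p ↥P).map P.subtype

namespace Iso

variable {S : Sylow p G} {P L Q R : Subgroup G} (c : Iso p S P L Q R)
include c

theorem Q_pgroup : IsPGroup p Q := S.2.to_le c.QS

theorem P_le : P ≤ R ⊔ (S : Subgroup G) := by
  intro x hx
  obtain ⟨k, hk, z, hz, he⟩ := Transfer.PResidual.exists_mul_sylow (S.subtype c.SP) (⟨x, hx⟩ : P)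
  have h1 : (k : G) * z = x := congrArg Subtype.val he
  rw [← h1]
  exact mul_mem (mem_sup_left (c.hR ▸ ⟨k, hk, rfl⟩)) (mem_sup_right hz)

theorem R_le_P : R ≤ P := c.hR ▸ map_subtype_le _

theorem R_ne : R ≠ ⊥ := fun h => c.not_le (by
  refine c.P_le.trans ?_
  rw [h, bot_sup_eq]
  exact c.SL)

theorem not_R_le : ¬ R ≤ L := fun h => c.not_le (c.P_le.trans (sup_le h c.SL))

/-- A subgroup normalised by `S` contains `R` or lies in `L`. -/
theorem cases_normalized {N : Subgroup G} (hN : (S : Subgroup G) ≤ normalizer (N : Set G)) :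
    R ≤ N ∨ N ≤ L := by
  by_cases h : P ≤ N ⊔ (S : Subgroup G)
  · refine Or.inl ?_
    rw [c.hR, map_le_iff_le_comap, Transfer.PResidual.pResidual_le_iff]
    exact fun g hg => mem_of_coprime_of_mem_sup S.2 hN (h g.2) (by rwa [Subgroup.coe_subtype, Subgroup.orderOf_coe])
  · exact Or.inr (le_sup_left.trans (c.gen _ le_sup_right h))

theorem cases_normal (N : Subgroup G) [N.Normal] : R ≤ N ∨ N ≤ L :=
  c.cases_normalized le_normalizer_of_normal

theorem R_le_closure : R ≤ normalClosure (Q : Set G) := by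
  refine (c.cases_normal _).resolve_right fun h => c.Q_ne (le_bot_iff.1 (c.core ▸ ?_))
  exact Cores.IsSubnormal.le_pCore (IsSubnormal.step _ _ Subgroup.le_normalClosure
    (Normal.isSubnormal inferInstance) (normal_subgroupOf_of_le_normalizer (h.trans c.Q_norm))) c.Q_pgroup

/-- A normal subgroup inside `L` is centralised by the closure of `R`. -/
theorem centralizes (N : Subgroup G) [hN : N.Normal] (h : N ≤ L) :
    normalClosure (R : Set G) ≤ centralizer (N : Set G) := by
  have hbot : N ⊓ Q = ⊥ := by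
    rw [eq_bot_iff, ← c.core]
    refine Cores.IsSubnormal.le_pCore (IsSubnormal.step _ _ inf_le_left
      (Normal.isSubnormal inferInstance) (normal_subgroupOf_of_le_normalizer ?_))
      (c.Q_pgroup.to_le inf_le_right)
    exact (le_inf le_normalizer (h.trans c.Q_norm)).trans inf_normalizer_le_normalizer_inf
  have hQ : Q ≤ centralizer (N : Set G) := by
    refine fun q hq => mem_centralizer_iff.2 fun n hn => commutatorElement_eq_one_iff_mul_comm.1 ?_
    refine mem_bot.1 (hbot ▸ ⟨?_, ?_⟩)
    · rw [commutatorElement_def, mul_assoc, mul_assoc, ← mul_assoc q]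
      exact N.mul_mem hn (hN.conj_mem _ (N.inv_mem hn) q)
    · rw [commutatorElement_def]
      exact Q.mul_mem ((mem_normalizer_iff.1 (c.Q_norm (h hn)) q).1 hq) (Q.inv_mem hq)
  exact normalClosure_le_normal (c.R_le_closure.trans (normalClosure_le_normal hQ))

theorem proper {N : Subgroup G} [N.Normal] (h : N < normalClosure (R : Set G)) : N ≤ L :=
  (c.cases_normal N).resolve_left fun hR => not_le_of_gt h (normalClosure_le_normal hR)

theorem Y_ne : normalClosure (R : Set G) ≠ ⊥ := fun h =>
  c.R_ne (le_bot_iff.1 (Subgroup.le_normalClosure.trans h.le))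

theorem sup_eq_top : normalClosure (R : Set G) ⊔ L = ⊤ := by
  refine top_le_iff.1 ((c.gen2 ⊤ le_top).trans (sup_le ?_ (inf_le_right.trans le_sup_right)))
  exact c.P_le.trans (sup_le (Subgroup.le_normalClosure.trans le_sup_left) (c.SL.trans le_sup_right))

/-- The closure of `R` does not centralise `Q`. -/
theorem not_centralizes : ¬ normalClosure (R : Set G) ≤ centralizer (Q : Set G) := by
  intro h
  have htop : normalizer (Q : Set G) = ⊤ := top_le_iff.1 (c.sup_eq_top ▸
    sup_le (h.trans (centralizer_le_normalizer _)) c.Q_norm)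
  haveI : Q.Normal := normalizer_eq_top_iff.1 htop
  exact c.Q_ne (le_bot_iff.1 (c.core ▸ Cores.le_pCore c.Q_pgroup))

theorem dichotomy : layer ↥(normalClosure (R : Set G)) = ⊤ ∨
    Group.IsNilpotent ↥(normalClosure (R : Set G)) := by
  set Y := normalClosure (R : Set G) with hY
  by_cases hE : layer ↥Y = ⊤
  · exact Or.inl hE
  refine Or.inr ?_
  have key : ∀ K : Subgroup ↥Y, K.Characteristic → K ≠ ⊤ → K ≤ center ↥Y := by
    intro K hK hne x hx
    haveI := hK
    haveI hn : (K.map Y.subtype).Normal := ConjAct.normal_of_characteristic_of_normal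
    have hlt : K.map Y.subtype < Y := lt_of_le_of_ne (map_subtype_le K) fun he => hne
      (map_injective Y.subtype_injective (by rw [he, ← MonoidHom.range_eq_map, range_subtype]))
    refine mem_center_iff.2 fun y => Subtype.ext ?_
    exact (mem_centralizer_iff.1 (c.centralizes _ (c.proper hlt) y.2) _ ⟨x, hx, rfl⟩).symm
  have hE0 : layer ↥Y = ⊥ := by
    by_contra hne
    obtain ⟨K, hK⟩ := Components.Layer.layer_ne_bot_iff.1 hne
    haveI : Group.IsSolvable ↥(center ↥Y) := Group.isSolvable_of_comm fun a b => mul_comm' a b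
    exact Components.Component.not_le_of_isSolvable hK
      ((Components.Layer.component_le_layer hK).trans (key _ inferInstance hE))
  rw [← Cores.fittingSubgroup_eq_top_iff]
  by_contra hne
  have hF : generalizedFittingSubgroup ↥Y = fittingSubgroup ↥Y := by
    rw [generalizedFittingSubgroup, hE0, bot_sup_eq]
  refine hne (top_le_iff.1 ?_)
  have h1 := Components.GenFitting.centralizer_le (G := ↥Y)
  rw [hF] at h1
  refine le_trans (fun y _ => mem_centralizer_iff.2 fun f hf => ?_) h1
  exact (mem_center_iff.1 (key _ inferInstance hne hf) y).symm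

theorem R_le_genFitting : R ≤ generalizedFittingSubgroup G := by
  set Y := normalClosure (R : Set G) with hY
  refine Subgroup.le_normalClosure.trans ?_
  rcases c.dichotomy with h | h
  · refine le_trans ?_ Components.GenFitting.layer_le_generalizedFitting
    have h1 : layer ↥Y ≤ (layer G).comap Y.subtype := sSup_le fun K hK =>
      map_le_iff_le_comap.1 (Components.Layer.component_le_layer
        (Components.Component.map_subtype (Normal.isSubnormal inferInstance) hK))
    intro y hy
    exact h1 (h.symm ▸ mem_top (⟨y, hy⟩ : ↥Y))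
  · exact (Cores.le_fittingSubgroup h).trans Components.GenFitting.fitting_le_generalizedFitting

/-- When `p` does not divide the closure there is a prime `t` carrying `R`. -/
theorem exists_prime (hYp : ¬ p ∣ Nat.card ↥(normalClosure (R : Set G))) :
    ∃ t : ℕ, t.Prime ∧ t ≠ p ∧ IsPGroup t R ∧
      ∀ r : ℕ, r.Prime → r ≠ t →
        ¬ r ∣ (centralizer (Q : Set G)).relIndex (normalClosure (R : Set G)) := by
  set Y := normalClosure (R : Set G) with hY
  have hcop : (Nat.card (S : Subgroup G)).Coprime (Nat.card Y) := by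
    obtain ⟨k, hk⟩ := IsPGroup.iff_card.1 S.2
    rw [hk]
    exact Nat.Coprime.pow_left k ((Nat.Prime.coprime_iff_not_dvd hp.out).2 hYp)
  have hsol : Group.IsSolvable (S : Subgroup G) := by
    haveI := S.2.isNilpotent
    infer_instance
  have key : ∀ r : ℕ, r.Prime →
      IsPGroup r R ∨ ¬ r ∣ (centralizer (Q : Set G)).relIndex Y := by
    intro r hr
    haveI : Fact r.Prime := ⟨hr⟩
    obtain ⟨T, hTY, hTr, hTi, hST⟩ := Cores.InvariantSylow.exists_invariant
      (A := (S : Subgroup G)) (K := Y) le_normalizer_of_normal hcop (Or.inl hsol) r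
    rcases c.cases_normalized hST with h | h
    · exact Or.inl (hTr.to_le h)
    refine Or.inr fun hd => hTi (hd.trans (relIndex_dvd_of_le_left Y fun x hx => ?_))
    refine mem_centralizer_iff.2 fun q hq => (commutatorElement_eq_one_iff_mul_comm.1 ?_).symm
    have hdisj := Subgroup.disjoint_of_coprime_natCard (H := (S : Subgroup G)) (K := Y) hcop
    refine mem_bot.1 (hdisj.le_bot ⟨c.QS ?_, ?_⟩)
    · rw [commutatorElement_def]
      exact Q.mul_mem ((mem_normalizer_iff.1 (c.Q_norm (h hx)) q).1 hq) (Q.inv_mem hq)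
    · rw [commutatorElement_def, mul_assoc, mul_assoc, ← mul_assoc q]
      exact Y.mul_mem (hTY hx) (normalClosure_normal.conj_mem _ (Y.inv_mem (hTY hx)) q)
  obtain ⟨t, ht, htR⟩ : ∃ t : ℕ, t.Prime ∧ IsPGroup t R := by
    by_contra hne
    push Not at hne
    refine c.not_centralizes (relIndex_eq_one.1 (Nat.eq_one_iff_not_exists_prime_dvd.2 ?_))
    exact fun r hr => (key r hr).resolve_left (hne r hr)
  refine ⟨t, ht, ?_, htR, fun r hr hrt => (key r hr).resolve_left fun h => c.R_ne ?_⟩
  · rintro rfl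
    obtain ⟨k, hk⟩ := IsPGroup.iff_card.1 htR
    have hdvd : Nat.card R ∣ Nat.card Y := card_dvd_of_le Subgroup.le_normalClosure
    rcases Nat.eq_zero_or_pos k with rfl | hk0
    · exact c.R_ne (card_eq_one.1 (by simpa using hk))
    · exact hYp ((dvd_pow_self t hk0.ne').trans (hk ▸ hdvd))
  · haveI : Fact r.Prime := ⟨hr⟩
    haveI : Fact t.Prime := ⟨ht⟩
    exact disjoint_self.1 (IsPGroup.disjoint_of_ne r t hrt R R h htR)

/-- A semisimple closure has order divisible by `p`. -/
theorem dvd_card (hE : layer ↥(normalClosure (R : Set G)) = ⊤) :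
    p ∣ Nat.card ↥(normalClosure (R : Set G)) := by
  by_contra hYp
  obtain ⟨t, ht, -, -, hidx⟩ := c.exists_prime hYp
  set Y := normalClosure (R : Set G) with hY
  set φ : G →* MulAut ↥Y := MulAut.conjNormal with hφ
  have hφv : ∀ (g : G) (y : Y), (φ g y : G) = g * y * g⁻¹ := fun g y => MulAut.conjNormal_apply g y
  set H := (Y ⊔ Q).map φ with hH
  set Qb := Q.map φ with hQb
  have hQb1 : Qb ≠ ⊥ := by
    refine fun h => c.not_centralizes fun y hy => mem_centralizer_iff.2 fun q hq => ?_
    have h1 : φ q = 1 := mem_bot.1 (h ▸ mem_map_of_mem φ hq)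
    have h2 := congrArg Subtype.val (MulEquiv.congr_fun h1 (⟨y, hy⟩ : Y))
    rw [hφv] at h2
    exact mul_inv_eq_iff_eq_mul.1 h2
  haveI : Nontrivial Qb := (nontrivial_iff_ne_bot _).2 hQb1
  haveI := (c.Q_pgroup.map φ).center_nontrivial
  obtain ⟨⟨⟨x, hxQ⟩, hxc⟩, hx1⟩ := exists_ne (1 : center Qb)
  have hxH : x ∈ H := map_mono le_sup_right hxQ
  set X := centralizer ({(⟨x, hxH⟩ : H)} : Set H) with hX
  set Yb := (Y.map φ).subgroupOf H with hYb
  haveI hYbn : Yb.Normal := by
    refine normal_subgroupOf_of_le_normalizer ?_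
    rw [hH]
    refine (map_mono (le_top : Y ⊔ Q ≤ ⊤)).trans ?_
    rw [← normalizer_eq_top (H := Y)]
    exact le_normalizer_map φ
  have hQX : Qb.subgroupOf H ≤ X := by
    intro z hz
    refine mem_centralizer_singleton_iff.2 (Subtype.ext ?_)
    exact congrArg (fun w : Qb => (w : MulAut ↥Y)) (mem_center_iff.1 hxc ⟨z, hz⟩)
  have htop : X ⊔ Yb = ⊤ := by
    refine top_le_iff.1 ?_
    rintro ⟨z, hz⟩ -
    obtain ⟨g, hg, rfl⟩ := hz
    obtain ⟨y, hy, q, hq, rfl⟩ := mem_sup_of_normal_left.1 hg
    have h1 : (⟨φ y, map_mono le_sup_left (mem_map_of_mem φ hy)⟩ : H) ∈ Yb := mem_map_of_mem φ hy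
    have h2 : (⟨φ q, map_mono le_sup_right (mem_map_of_mem φ hq)⟩ : H) ∈ X :=
      hQX (mem_map_of_mem φ hq)
    have h3 := mul_mem (mem_sup_right (S := X) h1) (mem_sup_left (T := Yb) h2)
    convert h3 using 1
    exact Subtype.ext (map_mul φ y q)
  -- the class of `x` has `t`-power size
  have hdvd : X.index ∣ (centralizer (Q : Set G)).relIndex Y := by
    have h1 : X.index = X.relIndex Yb := by
      have e1 : Yb.relIndex (X ⊔ Yb) = Yb.relIndex X := relIndex_sup_right X Yb
      rw [htop, relIndex_top_right] at e1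
      have e2 := relIndex_mul_index (inf_le_left : Yb ⊓ X ≤ Yb)
      have e3 := relIndex_mul_index (inf_le_right : Yb ⊓ X ≤ X)
      rw [inf_relIndex_right, ← e1] at e3
      rw [inf_comm, inf_relIndex_right, inf_comm, ← e3, mul_comm Yb.index] at e2
      exact (Nat.eq_of_mul_eq_mul_right (Nat.pos_of_ne_zero index_ne_zero_of_finite) e2).symm
    rw [h1]
    set C := centralizer (Q : Set G) with hC
    have h2 : ((C ⊓ Y).map φ).subgroupOf H ≤ X := by
      intro z hz
      obtain ⟨g, hg, hgz⟩ := hz
      obtain ⟨q, hq, hqx⟩ := hxQ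
      refine mem_centralizer_singleton_iff.2 (Subtype.ext ?_)
      show (z : MulAut ↥Y) * x = x * z
      have hgq : g * q = q * g := (mem_centralizer_iff.1 hg.1 q hq).symm
      have h3 : φ g * φ q = φ q * φ g := by rw [← map_mul, hgq, map_mul]
      rw [hgz, hqx] at h3
      exact h3
    refine (relIndex_dvd_of_le_left Yb h2).trans ?_
    rw [hYb, relIndex_subgroupOf (map_mono le_sup_left), ← inf_relIndex_right C Y]
    have he : ((C ⊓ Y).map φ).subgroupOf (Y.map φ) = ((C ⊓ Y).subgroupOf Y).map (φ.subgroupMap Y) := by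
      ext ⟨w, hw⟩
      constructor
      · rintro ⟨g, hg, hgw⟩
        exact ⟨⟨g, hg.2⟩, hg, Subtype.ext hgw⟩
      · rintro ⟨g, hg, hgw⟩
        exact ⟨g, hg, congrArg Subtype.val hgw⟩
    rw [relIndex, relIndex, he]
    exact index_map_dvd _ (φ.subgroupMap_surjective Y)
  obtain ⟨a, ha⟩ : ∃ a, X.index = t ^ a := by
    refine ⟨X.index.primeFactorsList.length, Nat.eq_prime_pow_of_unique_prime_dvd
      index_ne_zero_of_finite fun {r} hr hrd => ?_⟩
    by_contra hrt
    exact hidx r hr hrt (hrd.trans hdvd)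
  have hx := PrimePowerClass.Basic.mem_solRad ht (⟨x, hxH⟩ : H) ha
  -- the solvable radical of `H` acts trivially
  let ψ : ↥Y →* H := ((φ.comp Y.subtype).codRestrict H) fun y =>
    map_mono le_sup_left (mem_map_of_mem φ y.2)
  set A := (PrimePowerClass.Radical.solRad H).comap ψ with hA
  haveI hAsol : Group.IsSolvable A := by
    haveI := PrimePowerClass.Radical.solRad_isSolvable (G := H)
    let f : A →* PrimePowerClass.Radical.solRad H := (ψ.comp A.subtype).codRestrict _ fun a => a.2
    haveI : IsMulCommutative f.ker := by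
      refine .of_setLike_mul_comm fun a ha b _ => Subtype.ext (Subtype.ext ?_)
      have h1 : φ ((a : ↥Y) : G) = 1 :=
        congrArg (fun z : PrimePowerClass.Radical.solRad H => ((z : H) : MulAut ↥Y)) (MonoidHom.mem_ker.1 ha)
      have h2 := congrArg Subtype.val (MulEquiv.congr_fun h1 (b : ↥Y))
      rw [hφv] at h2
      exact mul_inv_eq_iff_eq_mul.1 h2
    haveI : Group.IsSolvable f.ker := Group.isSolvable_of_comm fun a b => mul_comm' a b
    exact Group.isSolvable_of_ker_le_range f.ker.subtype f (by rw [range_subtype])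
  have hAn : A.Normal := inferInstance
  have hAc : A ≤ center ↥Y := by
    intro a ha
    refine mem_center_iff.2 fun y => ?_
    have : layer ↥Y ≤ centralizer (A : Set ↥Y) := sSup_le fun K hK => by
      refine commutator_eq_bot_iff_le_centralizer.1 ?_
      rw [commutator_comm]
      exact Components.Component.commutator_eq_bot_of_isSolvable hK hAn.isSubnormal
    exact (mem_centralizer_iff.1 (this (hE.symm ▸ mem_top y)) a ha).symm
  obtain ⟨q, hq, hqx⟩ := hxQ
  have hfix : ∀ y : Y, φ q y * y⁻¹ ∈ center ↥Y := by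
    intro y
    refine hAc ?_
    show ψ (φ q y * y⁻¹) ∈ PrimePowerClass.Radical.solRad H
    have e : ψ (φ q y * y⁻¹) = ⟨x, hxH⟩ * ψ y * (⟨x, hxH⟩ : H)⁻¹ * (ψ y)⁻¹ := by
      refine Subtype.ext ?_
      show φ ((φ q y * y⁻¹ : Y) : G) = x * φ y * x⁻¹ * (φ y)⁻¹
      rw [← hqx, ← map_inv, ← map_inv, ← map_mul, ← map_mul, ← map_mul, Subgroup.coe_mul,
        Subgroup.coe_inv, hφv]
    rw [e, mul_assoc, mul_assoc, ← mul_assoc (ψ y)]
    exact mul_mem hx (PrimePowerClass.Radical.solRad_normal.conj_mem _ (inv_mem hx) _)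
  have hperf : ∀ y : Y, φ q y = y := by
    have hle : layer ↥Y ≤ (φ q).toMonoidHom.eqLocus (MonoidHom.id ↥Y) := by
      rw [← Components.Layer.commutator_layer_self, commutator_le]
      intro a _ b _
      show φ q ⁅a, b⁆ = ⁅a, b⁆
      rw [map_commutatorElement,
        show φ q a = φ q a * a⁻¹ * a by group, show φ q b = φ q b * b⁻¹ * b by group]
      have ca := mem_center_iff.1 (hfix a)
      have cb := mem_center_iff.1 (hfix b)
      set u := φ q a * a⁻¹
      set v := φ q b * b⁻¹
      calc ⁅u * a, v * b⁆ = u * (a * v) * b * a⁻¹ * u⁻¹ * b⁻¹ * v⁻¹ := by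
            rw [commutatorElement_def]; group
        _ = u * v * (a * b * a⁻¹) * u⁻¹ * b⁻¹ * v⁻¹ := by rw [cb a]; group
        _ = u * v * u⁻¹ * ((a * b * a⁻¹) * b⁻¹) * v⁻¹ := by
            rw [mul_assoc (u * v) (a * b * a⁻¹) u⁻¹,
              ((Commute.inv_right (ca (a * b * a⁻¹) : Commute (a * b * a⁻¹) u)).eq)]
            group
        _ = _ := by
            rw [(cb u : u * v = v * u), mul_inv_cancel_right, commutatorElement_def]
            have h4 : v * ((a * b * a⁻¹) * b⁻¹) = (a * b * a⁻¹) * b⁻¹ * v := (cb _).symm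
            rw [h4, mul_inv_cancel_right]
    intro y
    exact hle (hE.symm ▸ mem_top y)
  refine hx1 (Subtype.ext (Subtype.ext ?_))
  show x = 1
  rw [← hqx]
  exact MulEquiv.ext hperf

/-- `S` permutes the components transitively. -/
theorem transitive (hE : layer ↥(normalClosure (R : Set G)) = ⊤)
    {K₁ K₂ : Subgroup ↥(normalClosure (R : Set G))} (h₁ : IsComponent K₁) (h₂ : IsComponent K₂) :
    ∃ s ∈ (S : Subgroup G), K₂.map (normalClosure (R : Set G)).subtype =
      (K₁.map (normalClosure (R : Set G)).subtype).map (MulAut.conj s).toMonoidHom := by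
  set Y := normalClosure (R : Set G) with hY
  have hYn : Y.IsSubnormal := Normal.isSubnormal inferInstance
  let conjS : Subgroup G → G → Subgroup G := fun K g => K.map (MulAut.conj g).toMonoidHom
  have hcc : ∀ (K : Subgroup G) (g h : G), conjS (conjS K g) h = conjS K (h * g) := fun K g h => by
    simp only [conjS, map_map]
    congr 1
    ext x
    simp [MulAut.conj_apply, mul_assoc]
  have hc1 : ∀ K : Subgroup G, conjS K 1 = K := fun K => by
    simp only [conjS, map_one]
    exact map_id K
  let orb : Subgroup G → Subgroup G := fun K => ⨆ s : (S : Subgroup G), conjS K s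
  have horbS : ∀ K : Subgroup G, (S : Subgroup G) ≤ normalizer (orb K : Set G) := by
    intro K s hs
    refine mem_normalizer_fintype fun z hz => ?_
    have : orb K ≤ (orb K).comap (MulAut.conj s).toMonoidHom := iSup_le fun r => by
      rw [← map_le_iff_le_comap]
      show conjS (conjS K r) s ≤ _
      rw [hcc]
      exact le_iSup (fun r : (S : Subgroup G) => conjS K r) ⟨s * r, mul_mem hs r.2⟩
    exact this hz
  have hself : ∀ K : Subgroup G, K ≤ orb K := fun K => by
    have := le_iSup (fun r : (S : Subgroup G) => conjS K r) 1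
    simpa [hc1] using this
  have hcomp : ∀ {K : Subgroup G}, IsComponent K → K ≤ Y → ∀ g : G,
      IsComponent (conjS K g) ∧ conjS K g ≤ Y := fun {K} hK hKY g =>
    ⟨Components.Component.conj hK g, by
      rintro _ ⟨z, hz, rfl⟩
      exact normalClosure_normal.conj_mem z (hKY hz) g⟩
  have hnormY : ∀ {K : Subgroup G}, IsComponent K → Y ≤ normalizer (K : Set G) := by
    intro K hK
    refine le_trans ?_ (Components.Layer.layer_le_normalizer hK)
    have h1 : layer ↥Y ≤ (layer G).comap Y.subtype := sSup_le fun K hK =>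
      map_le_iff_le_comap.1 (Components.Layer.component_le_layer
        (Components.Component.map_subtype hYn hK))
    intro y hy
    exact h1 (hE.symm ▸ mem_top (⟨y, hy⟩ : ↥Y))
  have horbY : ∀ {K : Subgroup G}, IsComponent K → K ≤ Y → Y ≤ normalizer (orb K : Set G) := by
    intro K hK hKY
    refine fun y hy => mem_normalizer_fintype fun z hz => ?_
    have : orb K ≤ (orb K).comap (MulAut.conj y).toMonoidHom := iSup_le fun r z hz => by
      refine mem_iSup_of_mem r ?_
      exact (mem_normalizer_iff.1 (hnormY (hcomp hK hKY r).1 hy) z).1 hz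
    exact this hz
  -- a component moved by `Q` has `R` in its orbit
  have hmov : ∀ {K : Subgroup G}, IsComponent K → K ≤ Y → ¬ K ≤ centralizer (Q : Set G) →
      R ≤ orb K := by
    intro K hK hKY hKQ
    refine (c.cases_normalized (horbS K)).resolve_right fun h => hKQ ?_
    have horbY' : orb K ≤ Y := iSup_le fun r => (hcomp hK hKY r).2
    have hbot : orb K ⊓ Q = ⊥ := by
      rw [eq_bot_iff, ← c.core]
      refine Cores.IsSubnormal.le_pCore (IsSubnormal.step _ _ inf_le_left
        (IsSubnormal.step _ _ horbY' hYn (normal_subgroupOf_of_le_normalizer (horbY hK hKY)))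
        (normal_subgroupOf_of_le_normalizer ?_)) (c.Q_pgroup.to_le inf_le_right)
      exact (le_inf le_normalizer (h.trans c.Q_norm)).trans inf_normalizer_le_normalizer_inf
    intro z hz
    refine mem_centralizer_iff.2 fun q hq => (commutatorElement_eq_one_iff_mul_comm.1 ?_).symm
    refine mem_bot.1 (hbot ▸ ⟨?_, ?_⟩)
    · rw [commutatorElement_def, mul_assoc, mul_assoc, ← mul_assoc q]
      exact (orb K).mul_mem (hself K hz)
        ((mem_normalizer_iff.1 (horbS K (c.QS hq)) _).1 ((orb K).inv_mem (hself K hz)))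
    · rw [commutatorElement_def]
      exact Q.mul_mem ((mem_normalizer_iff.1 (c.Q_norm (h (hself K hz))) q).1 hq) (Q.inv_mem hq)
  have hYc : ∀ {N : Subgroup G}, (∀ K : Subgroup G, IsComponent K → K ≤ Y → K ≤ N) → Y ≤ N := by
    intro N h y hy
    have h1 : layer ↥Y ≤ N.comap Y.subtype := sSup_le fun K hK => map_le_iff_le_comap.1
      (h _ (Components.Component.map_subtype hYn hK) (map_subtype_le K))
    exact h1 (hE.symm ▸ mem_top (⟨y, hy⟩ : ↥Y))
  -- two moved components share their orbit
  have huniq : ∀ {K K' : Subgroup G}, IsComponent K → K ≤ Y → IsComponent K' → K' ≤ Y →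
      R ≤ orb K → R ≤ orb K' → ∃ s ∈ (S : Subgroup G), K' = conjS K s := by
    intro K K' hK hKY hK' hKY' hR hR'
    by_contra hne
    push Not at hne
    have hsep : ∀ r r' : (S : Subgroup G), conjS K r ≠ conjS K' r' := by
      intro r r' he
      refine hne ((r' : G)⁻¹ * r) (mul_mem (inv_mem r'.2) r.2) ?_
      rw [← hcc, he, hcc, inv_mul_cancel, hc1]
    have hcomm : orb K ≤ centralizer (orb K' : Set G) := iSup_le fun r => by
      rw [le_centralizer_iff]
      exact iSup_le fun r' => le_centralizer_iff.1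
        (Components.Component.le_centralizer_of_ne (hcomp hK hKY r).1 (hcomp hK' hKY' r').1 (hsep r r'))
    have hYR : Y ≤ centralizer (R : Set G) := hYc fun J hJ hJY => by
      by_cases hJo : ∃ r : (S : Subgroup G), J = conjS K r
      · obtain ⟨r, rfl⟩ := hJo
        exact ((le_iSup (fun r : (S : Subgroup G) => conjS K r) r).trans hcomm).trans
          (centralizer_le hR')
      · push Not at hJo
        refine le_trans ?_ (centralizer_le hR)
        rw [le_centralizer_iff]
        exact iSup_le fun r => Components.Component.le_centralizer_of_ne (hcomp hK hKY r).1 hJ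
          (Ne.symm (hJo r))
    have hYY : Y ≤ centralizer (Y : Set G) := by
      rw [le_centralizer_iff]
      exact normalClosure_le_normal (fun r hr => le_centralizer_iff.1 hYR hr)
    exact Components.Component.not_le_centralizer_self hK
      (hKY.trans (hYY.trans (centralizer_le hKY)))
  obtain ⟨K, hK, hKY, hKQ⟩ : ∃ K : Subgroup G, IsComponent K ∧ K ≤ Y ∧ ¬ K ≤ centralizer (Q : Set G) := by
    by_contra hne
    push Not at hne
    exact c.not_centralizes (hYc hne)
  have hKR := hmov hK hKY hKQ
  have hLn : L ≤ normalizer (orb K : Set G) := by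
    intro l hl
    refine mem_normalizer_fintype fun z hz => ?_
    have : orb K ≤ (orb K).comap (MulAut.conj l).toMonoidHom := iSup_le fun r => by
      rw [← map_le_iff_le_comap]
      show conjS (conjS K r) l ≤ _
      rw [hcc]
      have hg : l * r ∈ L := mul_mem hl (c.SL r.2)
      obtain ⟨hJ, hJY⟩ := hcomp hK hKY (l * r)
      have hJQ : ¬ conjS K (l * r) ≤ centralizer (Q : Set G) := by
        intro h
        refine hKQ fun z hz => mem_centralizer_iff.2 fun q hq => ?_
        have hn := c.Q_norm hg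
        set g := l * (r : G) with hgdef
        have h1 : g * q * g⁻¹ * (g * z * g⁻¹) = g * z * g⁻¹ * (g * q * g⁻¹) :=
          mem_centralizer_iff.1 (h ⟨z, hz, rfl⟩) _ ((mem_normalizer_iff.1 hn q).1 hq)
        rw [conj_mul, conj_mul] at h1
        exact mul_left_cancel (mul_right_cancel h1)
      obtain ⟨s, hs, he⟩ := huniq hK hKY hJ hJY hKR (hmov hJ hJY hJQ)
      rw [he]
      exact le_iSup (fun r : (S : Subgroup G) => conjS K r) ⟨s, hs⟩
    exact this hz
  have hn : (orb K).Normal := normalizer_eq_top_iff.1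
    (top_le_iff.1 (c.sup_eq_top ▸ sup_le (horbY hK hKY) hLn))
  have hYK : Y ≤ orb K := normalClosure_le_normal hKR
  have hall : ∀ {J : Subgroup G}, IsComponent J → J ≤ Y → ∃ r ∈ (S : Subgroup G), J = conjS K r := by
    intro J hJ hJY
    by_contra hne
    push Not at hne
    refine Components.Component.not_le_centralizer_self hJ ?_
    rw [le_centralizer_iff]
    refine (hJY.trans hYK).trans (iSup_le fun r => ?_)
    exact Components.Component.le_centralizer_of_ne (hcomp hK hKY r).1 hJ fun he =>
      hne r r.2 he.symm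
  obtain ⟨r₁, hr₁, e₁⟩ := hall (Components.Component.map_subtype hYn h₁) (map_subtype_le _)
  obtain ⟨r₂, hr₂, e₂⟩ := hall (Components.Component.map_subtype hYn h₂) (map_subtype_le _)
  refine ⟨r₂ * r₁⁻¹, mul_mem hr₂ (inv_mem hr₁), ?_⟩
  show _ = conjS _ _
  rw [e₁, e₂, hcc, inv_mul_cancel_right]

/-- A nilpotent closure is a `t`-group of class at most two and equals `R`. -/
theorem nilpotent_case (hnil : Group.IsNilpotent ↥(normalClosure (R : Set G))) :
    R = normalClosure (R : Set G) ∧ ∃ t : ℕ, t.Prime ∧ t ≠ p ∧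
      IsPGroup t ↥(normalClosure (R : Set G)) ∧
      ∀ x ∈ normalClosure (R : Set G), ∀ y ∈ normalClosure (R : Set G),
        ∀ z ∈ normalClosure (R : Set G), ⁅⁅x, y⁆, z⁆ = 1 := by
  set Y := normalClosure (R : Set G) with hY
  haveI := hnil
  have hsyl : ∀ (r : ℕ) [Fact r.Prime] (T : Sylow r ↥Y), (T : Subgroup ↥Y).Normal := fun r _ T =>
    (Group.isNilpotent_of_finite_tfae.out 0 3 rfl rfl).mp hnil r ‹Fact r.Prime› T
  have hYp : ¬ p ∣ Nat.card Y := by
    intro hd
    obtain ⟨T⟩ : Nonempty (Sylow p ↥Y) := inferInstance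
    have h1 : (T : Subgroup ↥Y) ≤ pCore p ↥Y := by
      haveI := hsyl p T
      exact Cores.le_pCore T.2
    have h2 : pCore p ↥Y = ⊥ := by
      apply map_injective Y.subtype_injective
      rw [Subgroup.map_bot, Cores.map_subtype_pCore, c.core, inf_bot_eq]
    have h3 := T.dvd_card_of_dvd_card hd
    rw [le_bot_iff.1 (h1.trans h2.le), Subgroup.card_bot] at h3
    exact hp.out.not_dvd_one h3
  obtain ⟨t, ht, htp, htR, -⟩ := c.exists_prime hYp
  haveI : Fact t.Prime := ⟨ht⟩
  have hYt : IsPGroup t Y := by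
    have hcn : ((pCore t ↥Y).map Y.subtype).Normal := ConjAct.normal_of_characteristic_of_normal
    refine ((Cores.pCore_isPGroup t).map Y.subtype).to_le (normalClosure_le_normal ?_)
    intro r hr
    obtain ⟨T, hT⟩ := (htR.comap_subtype (K := Y)).exists_le_sylow
    haveI := hsyl t T
    exact ⟨⟨r, Subgroup.le_normalClosure hr⟩, Cores.le_pCore T.2 (hT hr), rfl⟩
  have hlt : ⁅Y, Y⁆ < Y := by
    refine lt_of_le_of_ne (commutator_le_self Y) fun he => c.Y_ne ?_
    obtain ⟨n, hn⟩ := (Subgroup.isNilpotent_iff_lowerCentralSeries Y).1 hnil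
    refine le_bot_iff.1 (hn ▸ ?_)
    clear hn
    induction n with
    | zero => exact le_rfl
    | succ n ih =>
      rw [Subgroup.lowerCentralSeries_succ]
      exact he.symm.le.trans (commutator_mono ih le_rfl)
  have hcl := c.centralizes ⁅Y, Y⁆ (c.proper hlt)
  refine ⟨?_, t, ht, htp, hYt, fun x hx y hy z hz => commutatorElement_eq_one_iff_mul_comm.2
    (mem_centralizer_iff.1 (hcl hz) _ (commutator_mem_commutator hx hy))⟩
  -- `Y = R`
  set C := Y ⊓ L with hC
  set D := C ⊔ ⁅Y, Y⁆ with hD
  have hDY : D ≤ Y := sup_le inf_le_left (commutator_le_self Y)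
  have hCY : C ≠ Y := fun h => c.not_R_le
    ((Subgroup.le_normalClosure (H := R)).trans ((le_of_eq (hY.symm.trans h.symm)).trans inf_le_right))
  have hDne : D ≠ Y := by
    intro he
    refine hCY (le_antisymm inf_le_left ?_)
    have h1 : closure ((C.subgroupOf Y : Subgroup ↥Y) : Set ↥Y) = ⊤ := by
      refine PGroups.closure_eq_top_of_sup_frattini ?_
      rw [closure_eq]
      refine top_le_iff.1 ((le_of_eq ?_).trans (sup_le_sup_left (PGroups.commutator_le_frattini hYt) _))
      apply map_injective Y.subtype_injective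
      rw [Subgroup.map_sup, map_subgroupOf_eq_of_le (inf_le_left : C ≤ Y), _root_.commutator_def,
        map_commutator, ← MonoidHom.range_eq_map, range_subtype]
      exact he.symm
    rw [closure_eq] at h1
    exact fun y hy => (h1.symm ▸ mem_top (⟨y, hy⟩ : ↥Y) : (⟨y, hy⟩ : ↥Y) ∈ C.subgroupOf Y)
  have hLY : L ≤ normalizer (Y : Set G) := le_normalizer_of_normal
  haveI : D.Normal := by
    refine normalizer_eq_top_iff.1 (top_le_iff.1 (c.sup_eq_top ▸ sup_le ?_ ?_))
    · intro y hy
      refine mem_normalizer_fintype fun d hd => ?_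
      have h1 : ⁅y, d⁆ ∈ D := mem_sup_right (commutator_mem_commutator hy (hDY hd))
      have := D.mul_mem h1 hd
      rwa [show ⁅y, d⁆ * d = y * d * y⁻¹ by rw [commutatorElement_def]; group] at this
    · exact Coprime.le_normalizer_sup ((le_inf hLY le_normalizer).trans inf_normalizer_le_normalizer_inf)
        le_normalizer_of_normal
  have hDC : D = C := le_antisymm (le_inf hDY (c.proper (lt_of_le_of_ne hDY hDne))) le_sup_left
  haveI : C.Normal := hDC ▸ ‹D.Normal›
  have hCc := c.centralizes C inf_le_right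
  have hRY : R ≤ Y := Subgroup.le_normalClosure
  have hSR : (S : Subgroup G) ≤ normalizer (R : Set G) := by
    rw [c.hR]
    refine c.SP.trans ?_
    have := le_normalizer_map (H := pResidual p ↥P) P.subtype
    rwa [normalizer_eq_top_iff.2 Transfer.PResidual.pResidual_normal, ← MonoidHom.range_eq_map,
      range_subtype] at this
  have hYle : Y ≤ R ⊔ C := by
    intro y hy
    have hSX : (S : Subgroup G) ≤ normalizer ((R ⊔ C : Subgroup G) : Set G) :=
      Coprime.le_normalizer_sup hSR le_normalizer_of_normal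
    refine mem_of_coprime_of_mem_sup S.2 hSX ?_ ?_
    · refine ((c.gen2 (Y ⊔ (S : Subgroup G)) le_sup_right).trans (sup_le ?_ ?_)) (mem_sup_left hy)
      · exact c.P_le.trans (sup_le_sup_right le_sup_left _)
      · rintro w ⟨hw, hwL⟩
        obtain ⟨y', hy', s, hs, rfl⟩ := mem_sup_of_normal_left.1 hw
        have hy'L : y' ∈ L := by
          have := L.mul_mem hwL (L.inv_mem (c.SL hs))
          rwa [mul_inv_cancel_right] at this
        exact mul_mem (mem_sup_left (mem_sup_right ⟨hy', hy'L⟩)) (mem_sup_right hs)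
    · exact ((hp.out.coprime_iff_not_dvd.2 hYp).coprime_dvd_right
        (Y.orderOf_dvd_natCard hy)).symm
  set D' := ⁅Y, Q⁆ with hD'
  have hD'R : D' ≤ R := by
    refine commutator_le.2 fun y hy q hq => ?_
    have hyRC := hYle hy
    rw [← SetLike.mem_coe, mul_normal] at hyRC
    obtain ⟨r, hr, k, hk, rfl⟩ := hyRC
    have hk1 : ⁅k, q⁆ = 1 := by
      refine commutatorElement_eq_one_iff_mul_comm.2 ?_
      have hbot : Y ⊓ (S : Subgroup G) = ⊥ := by
        refine (Subgroup.disjoint_of_coprime_natCard ?_).eq_bot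
        obtain ⟨e, he⟩ := IsPGroup.iff_card.1 S.2
        rw [he]
        exact (Nat.Coprime.pow_left e (hp.out.coprime_iff_not_dvd.2 hYp)).symm
      refine commutatorElement_eq_one_iff_mul_comm.1 (mem_bot.1 (hbot ▸ ⟨?_, c.QS ?_⟩))
      · rw [commutatorElement_def, mul_assoc, mul_assoc, ← mul_assoc q]
        exact Y.mul_mem hk.1 (normalClosure_normal.conj_mem _ (Y.inv_mem hk.1) q)
      · rw [commutatorElement_def]
        exact Q.mul_mem ((mem_normalizer_iff.1 (c.Q_norm hk.2) q).1 hq) (Q.inv_mem hq)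
    rw [show ⁅r * k, q⁆ = r * ⁅k, q⁆ * r⁻¹ * ⁅r, q⁆ by simp only [commutatorElement_def]; group,
      hk1, mul_one, mul_inv_cancel, one_mul, commutatorElement_def, mul_assoc, mul_assoc, ← mul_assoc q]
    exact R.mul_mem hr ((mem_normalizer_iff.1 (hSR (c.QS hq)) _).1 (R.inv_mem hr))
  haveI : D'.Normal := by
    refine normalizer_eq_top_iff.1 (top_le_iff.1 (c.sup_eq_top ▸ sup_le ?_ ?_))
    · exact Coprime.left_le_normalizer_commutator Y Q
    · intro l hl
      rw [mem_normalizer_iff_map_conj_eq, map_commutator, mem_normalizer_iff_map_conj_eq.1 (hLY hl),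
        mem_normalizer_iff_map_conj_eq.1 (c.Q_norm hl)]
  rcases c.cases_normal D' with h | h
  · exact le_antisymm hRY (normalClosure_le_normal (h.trans le_rfl) |>.trans hD'R)
  exfalso
  refine c.not_centralizes fun y hy => mem_centralizer_iff.2 fun q hq => ?_
  have hd := commutator_mem_commutator hy hq
  set d := ⁅y, q⁆ with hdd
  have hdY : d ∈ Y := by
    rw [hdd, commutatorElement_def, mul_assoc, mul_assoc, ← mul_assoc q]
    exact Y.mul_mem hy (normalClosure_normal.conj_mem _ (Y.inv_mem hy) q)
  have hdq : d * q = q * d := by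
    have hbot : Y ⊓ (S : Subgroup G) = ⊥ := by
      refine (Subgroup.disjoint_of_coprime_natCard ?_).eq_bot
      obtain ⟨e, he⟩ := IsPGroup.iff_card.1 S.2
      rw [he]
      exact (Nat.Coprime.pow_left e (hp.out.coprime_iff_not_dvd.2 hYp)).symm
    refine commutatorElement_eq_one_iff_mul_comm.1 (mem_bot.1 (hbot ▸ ⟨?_, c.QS ?_⟩))
    · rw [commutatorElement_def, mul_assoc, mul_assoc, ← mul_assoc q]
      exact Y.mul_mem hdY (normalClosure_normal.conj_mem _ (Y.inv_mem hdY) q)
    · rw [commutatorElement_def]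
      exact Q.mul_mem ((mem_normalizer_iff.1 (c.Q_norm (h hd)) q).1 hq) (Q.inv_mem hq)
  have hq1 : y * q * y⁻¹ = d * q := by rw [hdd, commutatorElement_def]; group
  have hd1 : d = 1 := by
    have e : ∀ k : ℕ, y * q ^ k * y⁻¹ = d ^ k * q ^ k := fun k => by
      rw [← conj_pow, hq1, (show Commute d q from hdq).mul_pow]
    have e1 := e (orderOf q)
    rw [pow_orderOf_eq_one, mul_one, mul_inv_cancel, mul_one] at e1
    refine orderOf_eq_one_iff.1 (Nat.eq_one_of_dvd_coprimes ?_ (Y.orderOf_dvd_natCard hdY)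
      (orderOf_dvd_of_pow_eq_one e1.symm))
    obtain ⟨e, he⟩ := IsPGroup.iff_card.1 S.2
    refine Nat.Coprime.coprime_dvd_right ((S : Subgroup G).orderOf_dvd_natCard (c.QS hq)) ?_
    rw [he]
    exact (Nat.Coprime.pow_left e (hp.out.coprime_iff_not_dvd.2 hYp)).symm
  exact (commutatorElement_eq_one_iff_mul_comm.1 hd1).symm

end Iso

end Cfsg.Agent.Lib.LA5.Isolated
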