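import Cfsg.Agent.Lib.LA5.Isolated.Core
import Cfsg.Agent.Lib.LAEven56.PMinimalComp

/-!
# An isolated `p`-minimal subgroup: passage to `G / O_p(G)` and back
-/

set_option autoImplicit false
set_option linter.unusedSectionVars false
set_option linter.style.haveILetI false

open Cfsg
open scoped commutatorElement

namespace Cfsg.Agent.Lib.LA5.Isolated

open Subgroup
open Cfsg.Agent.Lib

universe u

variable {G : Type u} [Group G] [Finite G] {p : ℕ} [hp : Fact p.Prime]

/-- The hypotheses. -/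
structure Hyp (p : ℕ) (S : Sylow p G) (P L : Subgroup G) : Prop where
  SP : (S : Subgroup G) ≤ P
  hL : L = normalizer ((S : Subgroup G) : Set G) ⊔
    ⨆ P' : {P' : Subgroup G // (S : Subgroup G) ≤ P' ∧ Cfsg.IsPMinimal p ↥P' ∧ P' ≠ P}, (P' : Subgroup G)
  iso : ¬ (Cfsg.pCore p ↥L).map L.subtype ≤ (Cfsg.pCore p ↥P).map P.subtype

namespace Hyp

variable {S : Sylow p G} {P L : Subgroup G} (h : Hyp p S P L)
include h

theorem SL : (S : Subgroup G) ≤ L := h.hL ▸ le_normalizer.trans le_sup_left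

/-- Every overgroup of `S` is generated by `P` and its part in `L`. -/
theorem generation : ∀ H : Subgroup G, (S : Subgroup G) ≤ H →
    (¬ P ≤ H → H ≤ L) ∧ H ≤ P ⊔ (H ⊓ L) := by
  suffices key : ∀ (n : ℕ) (H : Subgroup G), Nat.card H = n → (S : Subgroup G) ≤ H →
      (¬ P ≤ H → H ≤ L) ∧ H ≤ P ⊔ (H ⊓ L) from fun H => key _ H rfl
  intro n
  induction n using Nat.strong_induction_on with
  | _ n ih =>
    intro H hn hSH
    subst hn
    have done_of_le : H ≤ L → (¬ P ≤ H → H ≤ L) ∧ H ≤ P ⊔ (H ⊓ L) := fun hle =>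
      ⟨fun _ => hle, (le_inf le_rfl hle).trans le_sup_right⟩
    set T := S.subtype hSH with hT
    by_cases hTn : (T : Subgroup ↥H).Normal
    · refine done_of_le (le_trans ?_ (h.hL ▸ le_sup_left))
      have := (normal_subgroupOf_iff_le_normalizer hSH).1 (by rwa [hT, Sylow.coe_subtype] at hTn)
      exact this
    by_cases hmin : Cfsg.IsPMinimal p ↥H
    · by_cases hHP : H = P
      · subst hHP
        exact ⟨fun hne => absurd le_rfl hne, le_sup_left⟩
      · refine done_of_le (le_trans ?_ (h.hL ▸ le_sup_right))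
        exact le_iSup (fun P' : {P' : Subgroup G // (S : Subgroup G) ≤ P' ∧ Cfsg.IsPMinimal p ↥P' ∧ P' ≠ P} =>
          (P' : Subgroup G)) ⟨H, hSH, hmin, hHP⟩
    have hne : (T : Subgroup ↥H) ≠ ⊤ := fun he => hTn (he ▸ inferInstance)
    obtain ⟨M₁, hM₁, hTM₁⟩ := (eq_top_or_exists_le_coatom (T : Subgroup ↥H)).resolve_left hne
    obtain ⟨M₂, hM₂, hTM₂, hne₂⟩ : ∃ M₂ : Subgroup ↥H, IsCoatom M₂ ∧ (T : Subgroup ↥H) ≤ M₂ ∧ M₂ ≠ M₁ := by
      by_contra hcon
      push Not at hcon
      exact hmin (LAEven56.PMinimal.isPMinimal_of_sylow T hTn hM₁ hTM₁ hcon)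
    have hstep : ∀ M : Subgroup ↥H, IsCoatom M → (T : Subgroup ↥H) ≤ M →
        (¬ P ≤ M.map H.subtype → M.map H.subtype ≤ L) ∧
          M.map H.subtype ≤ P ⊔ (M.map H.subtype ⊓ L) := by
      intro M hM hTM
      refine ih _ ?_ _ rfl fun s hs => ⟨⟨s, hSH hs⟩, hTM hs, rfl⟩
      rw [card_map_of_injective H.subtype_injective]
      exact lt_of_le_of_ne (card_le_card_group M) fun he => hM.1 (eq_top_of_card_eq M he)
    have htop : H ≤ M₁.map H.subtype ⊔ M₂.map H.subtype := by
      rw [← Subgroup.map_sup, hM₁.2 (M₁ ⊔ M₂) (lt_of_le_of_ne le_sup_left fun he => hne₂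
          ((hM₂.le_iff.1 (le_sup_right.trans he.ge)).resolve_left hM₁.1).symm),
        ← MonoidHom.range_eq_map, range_subtype]
    obtain ⟨g₁, k₁⟩ := hstep M₁ hM₁ hTM₁
    obtain ⟨g₂, k₂⟩ := hstep M₂ hM₂ hTM₂
    refine ⟨fun hPH => htop.trans (sup_le (g₁ fun hc => hPH (hc.trans (map_subtype_le _)))
      (g₂ fun hc => hPH (hc.trans (map_subtype_le _)))), htop.trans (sup_le ?_ ?_)⟩
    · exact k₁.trans (sup_le_sup_left (inf_le_inf_right _ (map_subtype_le _)) _)
    · exact k₂.trans (sup_le_sup_left (inf_le_inf_right _ (map_subtype_le _)) _)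

/-- `O_p(L)`. -/
theorem Q_le : (Cfsg.pCore p ↥L).map L.subtype ≤ (S : Subgroup G) := by
  rintro _ ⟨q, hq, rfl⟩
  exact Cores.pCore_le_sylow (S.subtype h.SL) hq

theorem L_le_normalizer : L ≤ normalizer ((Cfsg.pCore p ↥L).map L.subtype : Set G) := by
  have := le_normalizer_map (H := Cfsg.pCore p ↥L) L.subtype
  rwa [normalizer_eq_top_iff.2 inferInstance, ← MonoidHom.range_eq_map, range_subtype] at this

theorem le_pCore_P {X : Subgroup G} (hX : IsPGroup p X) (hXP : X ≤ P) (hn : P ≤ normalizer (X : Set G)) :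
    X ≤ (Cfsg.pCore p ↥P).map P.subtype := by
  haveI : (X.comap P.subtype).Normal := normal_subgroupOf_of_le_normalizer hn
  intro x hx
  exact ⟨⟨x, hXP hx⟩, Cores.le_pCore hX.comap_subtype hx, rfl⟩

theorem core_le_sylow : Cfsg.pCore p G ≤ (S : Subgroup G) := Cores.pCore_le_sylow S

theorem not_le : ¬ P ≤ L := fun hPL => h.iso
  (h.le_pCore_P ((Cores.pCore_isPGroup p).map _) (h.Q_le.trans h.SP) (hPL.trans h.L_le_normalizer))

/-- The image in `G / O_p(G)`. -/
theorem quotient [hn : (Cfsg.pCore p G).Normal] :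
    Iso p (S.mapSurjective (QuotientGroup.mk'_surjective (Cfsg.pCore p G)))
      (P.map (QuotientGroup.mk' (Cfsg.pCore p G))) (L.map (QuotientGroup.mk' (Cfsg.pCore p G)))
      (((Cfsg.pCore p ↥L).map L.subtype).map (QuotientGroup.mk' (Cfsg.pCore p G)))
      (((Cfsg.pResidual p ↥P).map P.subtype).map (QuotientGroup.mk' (Cfsg.pCore p G))) := by
  set π := QuotientGroup.mk' (Cfsg.pCore p G) with hπ
  have hs : Function.Surjective π := QuotientGroup.mk'_surjective _
  have hker : π.ker ≤ (S : Subgroup G) := by rw [hπ, QuotientGroup.ker_mk']; exact h.core_le_sylow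
  have hcoe : ((S.mapSurjective hs : Sylow p _) : Subgroup (G ⧸ Cfsg.pCore p G)) = (S : Subgroup G).map π :=
    Sylow.coe_mapSurjective hs S
  have hcomap : ∀ {H}, (S : Subgroup G).map π ≤ H → (S : Subgroup G) ≤ H.comap π :=
    fun hle => map_le_iff_le_comap.1 hle
  refine ⟨?_, ?_, ?_, ?_, ?_, ?_, ?_, ?_, ?_, ?_⟩
  · rw [hcoe]; exact map_mono h.SP
  · rw [hcoe]; exact map_mono h.SL
  · intro H hSH hPH
    rw [← map_comap_eq_self_of_surjective hs H]
    exact map_mono ((h.generation _ (hcomap (hcoe ▸ hSH))).1 fun hc =>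
      hPH (map_le_iff_le_comap.2 hc))
  · intro H hSH
    refine ((map_comap_eq_self_of_surjective hs H).symm.le.trans
      (map_mono (h.generation _ (hcomap (hcoe ▸ hSH))).2)).trans ?_
    rw [Subgroup.map_sup]
    exact sup_le_sup_left ((map_inf_le _ _ π).trans
      (inf_le_inf_right _ (map_comap_eq_self_of_surjective hs H).le)) _
  · intro hc
    refine h.not_le ?_
    have h1 := map_le_iff_le_comap.1 hc
    rwa [comap_map_eq_self (hker.trans h.SL)] at h1
  · rw [hcoe]; exact map_mono h.Q_le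
  · exact (map_mono h.L_le_normalizer).trans (le_normalizer_map π)
  · intro hc
    rw [Subgroup.map_eq_bot_iff, QuotientGroup.ker_mk'] at hc
    refine h.iso (hc.trans (h.le_pCore_P (Cores.pCore_isPGroup p) (h.core_le_sylow.trans h.SP) ?_))
    rw [normalizer_eq_top_iff.2 hn]
    exact le_top
  · exact Cores.pCore_quotient_pCore p
  · rw [← Transfer.PResidual.map_pResidual_of_surjective (π.subgroupMap P) (π.subgroupMap_surjective P),
      map_map, map_map]
    rfl

end Hyp

end Cfsg.Agent.Lib.LA5.Isolated
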